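import Cfsg.Agent.Lib.JTransfer.Delta
import Cfsg.Agent.Lib.KInfinity.Action
import Cfsg.Agent.Lib.KInfinity.Degree

/-!
# Degrees of an optimal abelian subgroup of largest order on a critical subgroup
-/

set_option autoImplicit false

namespace Cfsg.Agent.Lib.JTransfer

open Subgroup Cfsg
open scoped commutatorElement

variable {G : Type*} [Group G] {p : ℕ}

/-- The centre of `Q`. -/
abbrev zc (Q : Subgroup G) : Subgroup G := Q ⊓ centralizer (Q : Set G)

/-- The data: `Q` critical in `P`, `E` a large abelian subgroup between `Z(Q)` and `Q`, `A` optimal. -/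
structure Cfg (p : ℕ) (T A P Q E : Subgroup G) : Prop where
  pn : P.Normal
  qn : Q.Normal
  pp : IsPGroup p P
  qp : Q ≤ P
  pq : ⁅P, Q⁆ ≤ zc Q
  zsetting : Setting p T A (zc Q)
  esetting : Setting p T A E
  zopt : Optimal T P A (zc Q)
  eopt : Optimal T P A E
  eq_le : E ≤ Q
  self : Q ⊓ centralizer (E : Set G) ≤ E

variable {T A P Q E : Subgroup G}

theorem Cfg.comm_mem (h : Cfg p T A P Q E) {q r : G} (hq : q ∈ Q) (hr : r ∈ P) :
    ⁅q, r⁆ ∈ zc Q := by
  rw [← commutatorElement_inv]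
  exact inv_mem (h.pq (commutator_mem_commutator hr hq))

theorem comm_zc {q z : G} (hq : q ∈ Q) (hz : z ∈ zc Q) : q * z = z * q :=
  hz.2 q hq

theorem Cfg.comm_mul (h : Cfg p T A P Q E) {q q' r : G} (hq : q ∈ Q) (hq' : q' ∈ Q) (hr : r ∈ P) :
    ⁅q * q', r⁆ = ⁅q', r⁆ * ⁅q, r⁆ := by
  have e : ⁅q * q', r⁆ = q * ⁅q', r⁆ * q⁻¹ * ⁅q, r⁆ := by simp [commutatorElement_def, mul_assoc]
  rw [e, comm_zc hq (h.comm_mem hq' hr), mul_inv_cancel_right]

theorem Cfg.comm_inv (h : Cfg p T A P Q E) {q r : G} (hq : q ∈ Q) (hr : r ∈ P) :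
    ⁅q⁻¹, r⁆ = ⁅q, r⁆⁻¹ := by
  refine eq_inv_of_mul_eq_one_left ?_
  rw [← h.comm_mul hq (Q.inv_mem hq) hr, mul_inv_cancel, commutatorElement_one_left]

/-- The elements of `Q` whose commutators with `R` lie in `K`. -/
def Cfg.commPre (h : Cfg p T A P Q E) (R : Subgroup G) (hR : R ≤ P) (K : Subgroup G) :
    Subgroup G where
  carrier := {q | q ∈ Q ∧ ∀ r ∈ R, ⁅q, r⁆ ∈ K}
  one_mem' := ⟨Q.one_mem, fun r _ => by rw [commutatorElement_one_left]; exact K.one_mem⟩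
  mul_mem' := fun {x y} hx hy => ⟨Q.mul_mem hx.1 hy.1, fun r hr => by
    rw [h.comm_mul hx.1 hy.1 (hR hr)]; exact K.mul_mem (hy.2 r hr) (hx.2 r hr)⟩
  inv_mem' := fun {x} hx => ⟨Q.inv_mem hx.1, fun r hr => by
    rw [h.comm_inv hx.1 (hR hr)]; exact K.inv_mem (hx.2 r hr)⟩

/-- The commutator of `⁅q, a⁆` with an element of `P`. -/
theorem Cfg.comm_comm_eq (h : Cfg p T A P Q E) {q a r s : G} (hq : q ∈ Q) (hr : r ∈ P)
    (hs : s ∈ P) (hrs : a⁻¹ * r * a = r * s) (hrw : r * ⁅q, s⁆ = ⁅q, s⁆ * r) :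
    ⁅⁅q, a⁆, r⁆ = a * ⁅q, s⁆⁻¹ * a⁻¹ * ⁅a, ⁅q, r⁆⁻¹⁆ := by
  have := h.qn
  have haq : a * q⁻¹ * a⁻¹ ∈ Q := h.qn.conj_mem _ (Q.inv_mem hq) a
  have e0 : ⁅q, a⁆ = q * (a * q⁻¹ * a⁻¹) := by simp [commutatorElement_def, mul_assoc]
  have e1 : ⁅a * q⁻¹ * a⁻¹, r⁆ = a * ⁅q⁻¹, a⁻¹ * r * a⁆ * a⁻¹ := by
    simp [commutatorElement_def, mul_assoc]
  have e2 : ⁅q, r * s⁆ = ⁅q, r⁆ * (r * ⁅q, s⁆ * r⁻¹) := by
    simp [commutatorElement_def, mul_assoc]
  rw [e0, h.comm_mul hq haq hr, e1, hrs, h.comm_inv hq (P.mul_mem hr hs), e2, hrw,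
    mul_inv_cancel_right, commutatorElement_def a, inv_inv, _root_.mul_inv_rev]
  group

/-- One step of the iteration against elements of `A ⊓ P`. -/
theorem Cfg.step_commuting (h : Cfg p T A P Q E) {R : Subgroup G} (hR : R ≤ A ⊓ P)
    {X N : Subgroup G}
    (hX : X ≤ h.commPre R (hR.trans inf_le_right) (h.zsetting.pre N)) :
    ⁅X, A⁆ ≤ h.commPre R (hR.trans inf_le_right) N := by
  have := h.qn
  rw [commutator_le]
  intro q hq a ha
  obtain ⟨hqQ, hqR⟩ := hX hq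
  refine ⟨commutator_le_left Q A (commutator_mem_commutator hqQ ha), fun r hr => ?_⟩
  have hra : a⁻¹ * r * a = r * 1 := by
    rw [mul_one, mul_assoc, h.zsetting.commA (hR hr).1 ha, inv_mul_cancel_left]
  rw [h.comm_comm_eq hqQ (hR hr).2 P.one_mem hra
    (by rw [commutatorElement_one_right, mul_one, one_mul]), commutatorElement_one_right]
  simp only [inv_one, mul_one, mul_inv_cancel, one_mul]
  exact (inv_mem (hqR r hr) : _ ∈ h.zsetting.pre N).2 a ha

/-- One step of the iteration against elements of `Q`. -/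
theorem Cfg.step_rotating (h : Cfg p T A P Q E) {R C : Subgroup G} (hR : R ≤ Q) (hC : C ≤ P)
    (hs : ∀ r ∈ R, ∀ a ∈ A, r⁻¹ * (a⁻¹ * r * a) ∈ C) {X N K : Subgroup G}
    (hX : X ≤ h.commPre R (hR.trans h.qp) (h.zsetting.pre N))
    (hX' : X ≤ h.commPre C hC K) (hK : ∀ w ∈ K, ∀ a ∈ A, a * w * a⁻¹ ∈ N) :
    ⁅X, A⁆ ≤ h.commPre R (hR.trans h.qp) N := by
  have := h.qn
  rw [commutator_le]
  intro q hq a ha
  obtain ⟨hqQ, hqR⟩ := hX hq
  obtain ⟨-, hqC⟩ := hX' hq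
  refine ⟨commutator_le_left Q A (commutator_mem_commutator hqQ ha), fun r hr => ?_⟩
  have hsC := hs r hr a ha
  rw [h.comm_comm_eq hqQ (h.qp (hR hr)) (hC hsC) (mul_inv_cancel_left r _).symm
    (comm_zc (hR hr) (h.comm_mem hqQ (hC hsC)))]
  exact N.mul_mem (hK _ (inv_mem (hqC _ hsC)) a ha)
    ((inv_mem (hqR r hr) : _ ∈ h.zsetting.pre N).2 a ha)

theorem Cfg.commute_of_mem (h : Cfg p T A P Q E) {R : Subgroup G} {hR : R ≤ P} {q r : G}
    (hq : q ∈ h.commPre R hR ⊥) (hr : r ∈ R) : q * r = r * q :=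
  commutatorElement_eq_one_iff_mul_comm.mp (mem_bot.mp (hq.2 r hr))

theorem Cfg.le_commPre_top (h : Cfg p T A P Q E) {X : Subgroup G} (hX : X ≤ Q) {R : Subgroup G}
    (hR : R ≤ P) {K : Subgroup G} (hK : zc Q ≤ K) : X ≤ h.commPre R hR K :=
  fun _ hq => ⟨hX hq, fun _ hr => hK (h.comm_mem (hX hq) (hR hr))⟩

theorem Cfg.iter_le (h : Cfg p T A P Q E) (n : ℕ) : iterCommutator Q A n ≤ Q :=
  have := h.qn
  KInfinity.iterCommutator_le_normal Q A n

/-- When the second commutations kill `Z(Q)`: three steps centralise both families. -/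
theorem Cfg.three_steps (h : Cfg p T A P Q E)
    (hz : ∀ x ∈ zc Q, ¬ Failing A x) {C R : Subgroup G} (hC : C ≤ A ⊓ P) (hR : R ≤ Q)
    (hs : ∀ r ∈ R, ∀ a ∈ A, r⁻¹ * (a⁻¹ * r * a) ∈ C) {q : G} (hq : q ∈ iterCommutator Q A 3) :
    (∀ c ∈ C, q * c = c * q) ∧ ∀ r ∈ R, q * r = r * q := by
  have := h.qn
  have hW := h.zsetting.toActs
  have hzz : zc Q ≤ hW.pre (hW.pre ⊥) := fun x hx => ⟨hx, fun a ha => ⟨hW.mem ha hx,
    fun b hb => mem_bot.mpr (not_failing_iff.mp (hz x hx) a ha b hb)⟩⟩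
  have hCP : C ≤ P := hC.trans inf_le_right
  have h1 : iterCommutator Q A 1 ≤ h.commPre C hCP (hW.pre ⊥) :=
    h.step_commuting hC (h.le_commPre_top le_rfl hCP hzz)
  have h2 : iterCommutator Q A 2 ≤ h.commPre C hCP ⊥ := h.step_commuting hC h1
  have h3 : iterCommutator Q A 3 ≤ h.commPre C hCP ⊥ :=
    (KInfinity.iterCommutator_antitone Q A (show 2 ≤ 3 by omega)).trans h2
  have g2 : iterCommutator Q A 2 ≤ h.commPre R (hR.trans h.qp) (hW.pre ⊥) :=
    h.step_rotating hR hCP hs (h.le_commPre_top (h.iter_le 1) _ hzz) h1 fun w hw a ha => by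
      have : a * w = w * a :=
        commutatorElement_eq_one_iff_mul_comm.mp (mem_bot.mp (hw.2 a ha))
      rwa [this, mul_inv_cancel_right]
  have g3 : iterCommutator Q A 3 ≤ h.commPre R (hR.trans h.qp) ⊥ :=
    h.step_rotating hR hCP hs g2 h2 fun w hw a _ => by
      rw [mem_bot.mp hw]; simp
  exact ⟨fun c hc => h.commute_of_mem (h3 hq) hc, fun r hr => h.commute_of_mem (g3 hq) hr⟩

/-- The first case: degree five on `Q`. -/
theorem Cfg.five [Finite G] [Fact p.Prime] (h : Cfg p T A P Q E) (hPT : P ≤ T)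
    (hz : ∀ x ∈ zc Q, ¬ Failing A x) : iterCommutator Q A 5 = ⊥ := by
  have := h.qn
  have hW := h.esetting.toActs
  have hcent : ∀ x ∈ E, (∀ b ∈ A, ⁅b, x⁆ = 1) → x ∈ A := fun x hx hb =>
    mem_of_centralizes h.esetting.max (h.esetting.leT hx)
      fun b hbA => commutatorElement_eq_one_iff_mul_comm.mp (hb b hbA)
  rw [eq_bot_iff, KInfinity.iterCommutator_add Q A 3 2]
  have hQE : E ≤ P := h.eq_le.trans h.qp
  have hsE : ∀ r ∈ E, ¬ Failing A r → ∀ a ∈ A, r⁻¹ * (a⁻¹ * r * a) ∈ A ⊓ E := by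
    intro r hr hnf a ha
    have e : r⁻¹ * (a⁻¹ * r * a) = ⁅a⁻¹, r⁻¹⁆⁻¹ := by simp [commutatorElement_def, mul_assoc]
    have hm : ⁅a⁻¹, r⁻¹⁆ ∈ E := hW.mem (A.inv_mem ha) (E.inv_mem hr)
    rw [e]
    refine inv_mem (show _ ∈ A ⊓ E from ⟨hcent _ hm fun b hb => ?_, hm⟩)
    rw [hW.map_inv (A.inv_mem ha) hr, hW.map_inv hb (hW.mem (A.inv_mem ha) hr),
      not_failing_iff.mp hnf _ (A.inv_mem ha) b hb, inv_one]
  by_cases hall : ∀ x ∈ E, ¬ Failing A x
  · have hC : A ⊓ E ≤ A ⊓ P := inf_le_inf_left A hQE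
    have h3 : iterCommutator Q A 3 ≤ E := fun q hq => h.self ⟨h.iter_le 3 hq, fun r hr =>
      ((h.three_steps hz hC h.eq_le (fun r hr a ha => hsE r hr (hall r hr) a ha) hq).2 r hr).symm⟩
    exact hW.iter_two_le h3 fun x hx a ha b hb =>
      mem_bot.mpr (not_failing_iff.mp (hall x (h3 hx)) a ha b hb)
  push Not at hall
  obtain ⟨y, hy, hfy, hmin⟩ := h.esetting.exists_minimal_failing hall
  set M := span A y with hM
  set C := A ⊓ centralizer (M : Set G) with hCdef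
  have hME : M ≤ E := hW.span_le hy
  have hnf : ∀ m ∈ M, ∀ a ∈ A, ∀ b ∈ A, ⁅b, ⁅a, m⁆⁆ = 1 := by
    have hle : M ≤ hW.pre (hW.pre ⊥) := by
      rw [hM, span, closure_le]
      rintro _ ⟨e, he, rfl⟩
      exact ⟨hW.mem he hy, fun a ha => ⟨hW.mem ha (hW.mem he hy),
        fun b hb => mem_bot.mpr (not_failing_iff.mp (hmin e he) a ha b hb)⟩⟩
    exact fun m hm a ha b hb => mem_bot.mp (((hle hm).2 a ha).2 b hb)
  have hC : C ≤ A ⊓ P :=
    le_inf inf_le_left (h.esetting.centralizer_le_of_failing h.eopt hy hfy)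
  have hs : ∀ r ∈ M, ∀ a ∈ A, r⁻¹ * (a⁻¹ * r * a) ∈ C := by
    intro r hr a ha
    have hmem := hsE r (hME hr) (not_failing_iff.mpr (hnf r hr)) a ha
    exact ⟨hmem.1, fun m hm => hW.comm m (hME hm) _ hmem.2⟩
  obtain ⟨hMC, -, -⟩ := h.esetting.replacement hy
  have hCn : C ≤ normalizer (M : Set G) := inf_le_left.trans (span_normalised A y)
  have h3 : iterCommutator Q A 3 ≤ M ⊔ C := by
    intro q hq
    obtain ⟨hqC, hqM⟩ := h.three_steps hz hC (hME.trans h.eq_le) hs hq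
    refine mem_of_centralizes hMC ?_ fun b hb => ?_
    · exact hPT (h.qp (h.iter_le 3 hq))
    · have hle : M ⊔ C ≤ centralizer ({q} : Set G) :=
        sup_le (fun m hm => mem_centralizer_singleton_iff.mpr (hqM m hm).symm)
          fun c hc => mem_centralizer_singleton_iff.mpr (hqC c hc).symm
      exact mem_centralizer_singleton_iff.mp (hle hb)
  have h4 : iterCommutator Q A 4 ≤ A := by
    refine (commutator_mono h3 le_rfl).trans ?_
    rw [commutator_le]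
    intro x hx a ha
    rw [← SetLike.mem_coe, coe_mul_of_right_le_normalizer_left M C hCn] at hx
    obtain ⟨m, hm, c, hc, rfl⟩ := hx
    have e : ⁅m * c, a⁆ = m * ⁅c, a⁆ * m⁻¹ * ⁅m, a⁆ := by
      simp [commutatorElement_def, mul_assoc]
    rw [e, commutatorElement_eq_one_iff_mul_comm.mpr (h.esetting.commA hc.1 ha), mul_one,
      mul_inv_cancel, one_mul, ← commutatorElement_inv]
    exact inv_mem (hcent _ (hW.mem ha (hME hm)) fun b hb => hnf m hm a ha b hb)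
  show ⁅iterCommutator (iterCommutator Q A 3) A 1, A⁆ ≤ ⊥
  rw [← KInfinity.iterCommutator_add, commutator_le]
  intro u hu a ha
  exact mem_bot.mpr (commutatorElement_eq_one_iff_mul_comm.mpr
    (h.esetting.commA (h4 hu) ha))

/-- The subgroups of `Z(Q)` over `A ⊓ Z(Q)` which trade evenly against their centraliser. -/
def IsGood (A Z N : Subgroup G) : Prop :=
  A ≤ normalizer (N : Set G) ∧ A ⊓ Z ≤ N ∧ N ≤ Z ∧
    Nat.card A * Nat.card ↥(A ⊓ Z) ≤ Nat.card N * Nat.card ↥(A ⊓ centralizer (N : Set G))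

variable {W : Subgroup G}

theorem Setting.good_bound [Finite G] (h : Setting p T A W) {N : Subgroup G} (hN : N ≤ W) :
    Nat.card N * Nat.card ↥(A ⊓ centralizer (N : Set G)) ≤ Nat.card A * Nat.card ↥(A ⊓ W) := by
  set C := A ⊓ centralizer (N : Set G)
  have hcomm : IsMulCommutative ↥(N ⊔ C) := by
    rw [show N ⊔ C = closure ((N : Set G) ∪ (C : Set G)) by
      rw [Subgroup.closure_union, Subgroup.closure_eq, Subgroup.closure_eq]]
    refine isMulCommutative_closure ?_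
    rintro u (hu | hu) v (hv | hv)
    · exact h.comm u (hN hu) v (hN hv)
    · exact hv.2 u hu
    · exact (hu.2 v hv).symm
    · exact h.commA hu.1 hv.1
  refine (card_mul_card_le N C).trans (Nat.mul_le_mul
    (h.max.2.2 _ hcomm (sup_le (hN.trans h.leT) (inf_le_left.trans h.max.2.1))) ?_)
  exact Subgroup.card_le_of_le (le_inf (inf_le_right.trans inf_le_left) (inf_le_left.trans hN))

theorem Setting.good_span [Finite G] (h : Setting p T A W) {x : G} (hx : x ∈ W) :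
    IsGood A W (span A x ⊔ A ⊓ W) := by
  have hMW := h.span_le hx
  set M := span A x with hM
  have hn : A ≤ normalizer ((A ⊓ W : Subgroup G) : Set G) := by
    rw [le_normalizer_iff_commutator_le_left, commutator_le]
    intro u hu a ha
    rw [commutatorElement_eq_one_iff_mul_comm.mpr (h.commA hu.1 ha)]
    exact one_mem _
  refine ⟨?_, le_sup_right, sup_le hMW inf_le_right, ?_⟩
  · rw [le_normalizer_iff_commutator_le_left]
    rw [commutator_le]
    intro u hu a ha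
    rw [← SetLike.mem_coe, coe_mul_of_right_le_normalizer_left M (A ⊓ W)
      (inf_le_left.trans (span_normalised A x))] at hu
    obtain ⟨m, hm, w, hw, rfl⟩ := hu
    have e : ⁅m * w, a⁆ = m * ⁅w, a⁆ * m⁻¹ * ⁅m, a⁆ := by
      simp [commutatorElement_def, mul_assoc]
    rw [e, commutatorElement_eq_one_iff_mul_comm.mpr (h.commA hw.1 ha), mul_one,
      mul_inv_cancel, one_mul]
    exact mem_sup_left
      (commutator_le_of_normalizer (span_normalised A x) (commutator_mem_commutator hm ha))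
  obtain ⟨-, hcount, -⟩ := h.replacement hx
  have hC : A ⊓ centralizer (M : Set G) ≤
      A ⊓ centralizer ((M ⊔ A ⊓ W : Subgroup G) : Set G) := by
    refine fun c hc => ⟨hc.1, ?_⟩
    have : M ⊔ A ⊓ W ≤ centralizer ({c} : Set G) :=
      sup_le (fun m hm => mem_centralizer_singleton_iff.mpr (hc.2 m hm))
        fun w hw => mem_centralizer_singleton_iff.mpr (h.commA hw.1 hc.1)
    exact fun u hu => mem_centralizer_singleton_iff.mp (this hu)
  have h1 := card_mul_card_le M (A ⊓ W)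
  rw [← inf_assoc, inf_eq_left.mpr (inf_le_left.trans hMW)] at h1
  have h2 := Subgroup.card_le_of_le hC
  have h0 : 0 < Nat.card ↥(M ⊓ A) := Nat.card_pos
  refine Nat.le_of_mul_le_mul_right ?_ h0
  calc Nat.card A * Nat.card ↥(A ⊓ W) * Nat.card ↥(M ⊓ A)
      = Nat.card M * Nat.card ↥(A ⊓ W) * Nat.card ↥(A ⊓ centralizer (M : Set G)) := by
        rw [mul_right_comm _ _ (Nat.card ↥(M ⊓ A)), ← hcount]; ring
    _ ≤ Nat.card ↥(M ⊔ A ⊓ W) * Nat.card ↥(M ⊓ A) *
          Nat.card ↥(A ⊓ centralizer ((M ⊔ A ⊓ W : Subgroup G) : Set G)) :=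
        Nat.mul_le_mul h1 h2
    _ = _ := by ring

theorem Setting.good_sup [Finite G] (h : Setting p T A W) {N₁ N₂ : Subgroup G}
    (h1 : IsGood A W N₁) (h2 : IsGood A W N₂) : IsGood A W (N₁ ⊔ N₂) := by
  obtain ⟨n1, q1, w1, c1⟩ := h1
  obtain ⟨n2, q2, w2, c2⟩ := h2
  have hn : ∀ a ∈ A, ∀ u ∈ N₁ ⊔ N₂, a * u * a⁻¹ ∈ N₁ ⊔ N₂ := by
    intro a ha u hu
    have hle : (N₁ ⊔ N₂).map (MulAut.conj a).toMonoidHom ≤ N₁ ⊔ N₂ := by
      rw [Subgroup.map_sup]
      refine sup_le_sup ?_ ?_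
      · rintro _ ⟨v, hv, rfl⟩
        exact (mem_normalizer_iff.mp (n1 ha) v).mp hv
      · rintro _ ⟨v, hv, rfl⟩
        exact (mem_normalizer_iff.mp (n2 ha) v).mp hv
    exact hle (mem_map_of_mem _ hu)
  refine ⟨fun a ha => mem_normalizer_iff.mpr fun u => ⟨hn a ha u, fun hu => ?_⟩,
    q1.trans le_sup_left, sup_le w1 w2, ?_⟩
  · simpa [mul_assoc] using hn a⁻¹ (A.inv_mem ha) _ hu
  set C1 := A ⊓ centralizer (N₁ : Set G) with hC1
  set C2 := A ⊓ centralizer (N₂ : Set G) with hC2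
  set C3 := A ⊓ centralizer ((N₁ ⊓ N₂ : Subgroup G) : Set G)
  set C := A ⊓ centralizer ((N₁ ⊔ N₂ : Subgroup G) : Set G)
  have hC : C1 ⊓ C2 ≤ C := by
    rintro c ⟨hc1, hc2⟩
    have : N₁ ⊔ N₂ ≤ centralizer ({c} : Set G) :=
      sup_le (fun m hm => mem_centralizer_singleton_iff.mpr (hc1.2 m hm))
        fun m hm => mem_centralizer_singleton_iff.mpr (hc2.2 m hm)
    exact ⟨hc1.1, fun u hu => mem_centralizer_singleton_iff.mp (this hu)⟩
  have hC3 : C1 ⊔ C2 ≤ C3 := sup_le (fun c hc => ⟨hc.1, fun u hu => hc.2 u hu.1⟩)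
    fun c hc => ⟨hc.1, fun u hu => hc.2 u hu.2⟩
  have eN := card_mul_card_le N₁ N₂
  have eC := card_mul_card_le C1 C2
  have b3 : Nat.card ↥(N₁ ⊓ N₂) * Nat.card C3 ≤ Nat.card A * Nat.card ↥(A ⊓ W) :=
    h.good_bound (inf_le_left.trans w1)
  set K := Nat.card A * Nat.card ↥(A ⊓ W) with hK
  have hK0 : 0 < K := Nat.mul_pos Nat.card_pos Nat.card_pos
  have hlecard := Subgroup.card_le_of_le hC
  have hlecard3 := Subgroup.card_le_of_le hC3
  refine Nat.le_of_mul_le_mul_right ?_ hK0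
  calc K * K ≤ (Nat.card N₁ * Nat.card C1) * (Nat.card N₂ * Nat.card C2) := Nat.mul_le_mul c1 c2
    _ = (Nat.card N₁ * Nat.card N₂) * (Nat.card C1 * Nat.card C2) := by ring
    _ ≤ (Nat.card ↥(N₁ ⊔ N₂) * Nat.card ↥(N₁ ⊓ N₂)) *
          (Nat.card ↥(C1 ⊔ C2) * Nat.card ↥(C1 ⊓ C2)) := Nat.mul_le_mul eN eC
    _ ≤ (Nat.card ↥(N₁ ⊔ N₂) * Nat.card ↥(N₁ ⊓ N₂)) * (Nat.card C3 * Nat.card C) :=
        Nat.mul_le_mul_left _ (Nat.mul_le_mul hlecard3 hlecard)
    _ = (Nat.card ↥(N₁ ⊔ N₂) * Nat.card C) * (Nat.card ↥(N₁ ⊓ N₂) * Nat.card C3) := by ring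
    _ ≤ (Nat.card ↥(N₁ ⊔ N₂) * Nat.card C) * K := Nat.mul_le_mul_left _ b3

/-- The second case: degree four on `Q` over its centre. -/
theorem Cfg.four [Finite G] [Fact p.Prime] (h : Cfg p T A P Q E) (hPT : P ≤ T)
    (hf : ∃ x ∈ zc Q, Failing A x) : iterCommutator Q A 4 ≤ zc Q := by
  have := h.qn
  have hS := h.zsetting
  have hW := hS.toActs
  obtain ⟨x₀, hx₀, hfx₀⟩ := hf
  obtain ⟨N, hN, hmax⟩ := Set.exists_max_image {N | IsGood A (zc Q) N}
    (fun N : Subgroup G => Nat.card N) (Set.toFinite _) ⟨_, hS.good_span hx₀⟩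
  have hspan : ∀ x ∈ zc Q, span A x ≤ N := by
    intro x hx
    have hle : N ≤ N ⊔ (span A x ⊔ A ⊓ zc Q) := le_sup_left
    rw [eq_of_le_of_card_ge hle (hmax _ (hS.good_sup hN (hS.good_span hx)))]
    exact le_sup_left.trans le_sup_right
  obtain ⟨hNn, hNq, hNW, hNc⟩ := hN
  set D := A ⊓ centralizer (N : Set G) with hD
  have hcomm : IsMulCommutative ↥(N ⊔ D) := by
    rw [show N ⊔ D = closure ((N : Set G) ∪ (D : Set G)) by
      rw [Subgroup.closure_union, Subgroup.closure_eq, Subgroup.closure_eq]]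
    refine isMulCommutative_closure ?_
    rintro u (hu | hu) v (hv | hv)
    · exact hW.comm u (hNW hu) v (hNW hv)
    · exact hv.2 u hu
    · exact (hu.2 v hv).symm
    · exact hS.commA hu.1 hv.1
  have hND : N ⊔ D ∈ ThompsonA.maxAbIn T := by
    refine ⟨hcomm, sup_le (hNW.trans hS.leT) (inf_le_left.trans hS.max.2.1), fun B hB hBT =>
      (hS.max.2.2 B hB hBT).trans ?_⟩
    have h1 := card_mul_card_le N D
    have h2 : Nat.card ↥(N ⊓ D) ≤ Nat.card ↥(A ⊓ zc Q) :=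
      Subgroup.card_le_of_le (le_inf (inf_le_right.trans inf_le_left) (inf_le_left.trans hNW))
    exact Nat.le_of_mul_le_mul_right (hNc.trans (h1.trans (Nat.mul_le_mul_left _ h2))) Nat.card_pos
  have hDP : D ≤ A ⊓ P := by
    refine le_inf inf_le_left ?_
    by_contra hP
    have hle := h.zopt _ hND (fun hle => hP (le_sup_right.trans hle)) (hNq.trans le_sup_left)
    obtain ⟨a, ha, b, hb, hne⟩ := hfx₀
    have h1 : ⁅a, x₀⁆ ∈ A := hle ⟨mem_sup_left (hspan x₀ hx₀ (mem_span ha)), hW.mem ha hx₀⟩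
    exact hne (commutatorElement_eq_one_iff_mul_comm.mpr (hS.commA hb h1))
  have htriple : ∀ q ∈ Q, ∀ d ∈ D, ⁅q, d⁆ ∈ hW.pre (hW.pre (hW.pre ⊥)) := by
    intro q hq d hd
    have hdP := (hDP hd).2
    have hz := h.comm_mem hq hdP
    refine ⟨hz, fun a ha => ⟨hW.mem ha hz, fun b hb => ⟨hW.mem hb (hW.mem ha hz),
      fun e he => mem_bot.mpr ?_⟩⟩⟩
    obtain ⟨c, hc, hce⟩ := hS.exists_product h.zopt hz ha hb
    rw [hce e he]
    have hz' := h.comm_mem hq hc.2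
    have e1 : ⁅q, c * d⁆ = ⁅q, c⁆ * (c * ⁅q, d⁆ * c⁻¹) := by
      simp [commutatorElement_def, mul_assoc]
    have e2 : ⁅q, d * c⁆ = ⁅q, d⁆ * (d * ⁅q, c⁆ * d⁻¹) := by
      simp [commutatorElement_def, mul_assoc]
    rw [hS.commA hc.1 hd.1, e2] at e1
    have hv : d * ⁅q, c⁆ * d⁻¹ ∈ zc Q := (mem_normalizer_iff.mp (hW.le hd.1) _).mp hz'
    have key : ⁅c, ⁅q, d⁆⁆ = ⁅d, ⁅q, c⁆⁆ := by
      calc ⁅c, ⁅q, d⁆⁆ = ⁅q, c⁆⁻¹ * (⁅q, c⁆ * (c * ⁅q, d⁆ * c⁻¹)) * ⁅q, d⁆⁻¹ := by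
            rw [inv_mul_cancel_left, commutatorElement_def]
        _ = ⁅q, c⁆⁻¹ * (⁅q, d⁆ * (d * ⁅q, c⁆ * d⁻¹)) * ⁅q, d⁆⁻¹ := by rw [e1]
        _ = ⁅q, c⁆⁻¹ * ((d * ⁅q, c⁆ * d⁻¹) * ⁅q, d⁆) * ⁅q, d⁆⁻¹ := by
            rw [hW.comm _ hz _ hv]
        _ = ⁅q, c⁆⁻¹ * (d * ⁅q, c⁆ * d⁻¹) := by group
        _ = (d * ⁅q, c⁆ * d⁻¹) * ⁅q, c⁆⁻¹ := hW.comm _ (inv_mem hz') _ hv
        _ = ⁅d, ⁅q, c⁆⁆ := (commutatorElement_def _ _).symm
    rw [key, hW.swap he hd.1 (hS.commA he hd.1) hz']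
    exact commutatorElement_eq_one_iff_mul_comm.mpr
      (hd.2 _ (hspan _ hz' (mem_span he))).symm
  have hDP' : D ≤ P := hDP.trans inf_le_right
  have h3 : iterCommutator Q A 3 ≤ h.commPre D hDP' ⊥ :=
    h.step_commuting hDP (h.step_commuting hDP
      (h.step_commuting hDP (fun q hq => ⟨hq, htriple q hq⟩)))
  have h3' : iterCommutator Q A 3 ≤ N ⊔ D := by
    intro q hq
    refine mem_of_centralizes hND (hPT (h.qp (h.iter_le 3 hq))) fun b hb => ?_
    have hle : N ⊔ D ≤ centralizer ({q} : Set G) :=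
      sup_le (fun n hn => mem_centralizer_singleton_iff.mpr (comm_zc (h.iter_le 3 hq) (hNW hn)).symm)
        fun d hd => mem_centralizer_singleton_iff.mpr (h.commute_of_mem (h3 hq) hd).symm
    exact mem_centralizer_singleton_iff.mp (hle hb)
  refine (commutator_mono h3' le_rfl).trans ?_
  rw [commutator_le]
  intro x hx a ha
  rw [← SetLike.mem_coe, coe_mul_of_right_le_normalizer_left N D (inf_le_left.trans hNn)] at hx
  obtain ⟨n, hn, d, hd, rfl⟩ := hx
  have e : ⁅n * d, a⁆ = n * ⁅d, a⁆ * n⁻¹ * ⁅n, a⁆ := by simp [commutatorElement_def, mul_assoc]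
  rw [e, commutatorElement_eq_one_iff_mul_comm.mpr (hS.commA hd.1 ha), mul_one, mul_inv_cancel,
    one_mul]
  exact hNW (commutator_le_of_normalizer hNn (commutator_mem_commutator hn ha))

/-- Degree six on all chief factors below `P`. -/
theorem Cfg.degree_six [Finite G] [Fact p.Prime] (h : Cfg p T A P Q E) (hPT : P ≤ T)
    (hcent : P ⊓ centralizer (Q : Set G) ≤ Q) :
    ∀ U V : Subgroup G, IsChiefFactor U V → U ≤ P → iterCommutator U A 6 ≤ V := by
  have := h.pn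
  have := h.qn
  have hW := h.zsetting.toActs
  by_cases hf : ∃ x ∈ zc Q, Failing A x
  · have h3 : ∀ U V : Subgroup G, IsChiefFactor U V → U ≤ zc Q → iterCommutator U A 3 ≤ V := by
      intro U V hUV hU
      refine hW.iter_three_le hU fun x hx a ha b hb e he => ?_
      obtain ⟨c, hc, hce⟩ := h.zsetting.exists_product h.zopt (hU hx) ha hb
      rw [hce e he]
      have h1 : ⁅c, x⁆ ∈ V := by
        rw [← commutatorElement_inv]
        exact inv_mem (KInfinity.commutator_chiefFactor_le h.pp hUV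
          (hU.trans (inf_le_left.trans h.qp)) (commutator_mem_commutator hx hc.2))
      have := hUV.2.2.1
      exact V.mul_mem (hUV.2.2.1.conj_mem _ h1 e) (V.inv_mem h1)
    have h4 := h.four hPT hf
    refine KInfinity.iterCommutator_le_of_critical h.pp h.qp h.pq hcent
      (i := 4) (j := 3) (by norm_num) (fun U V hUV hU => ?_) h3
    have := hUV.2.1
    have := hUV.2.2.1
    rcases KInfinity.chiefFactor_split (Z := zc Q) hUV with hc | hc
    · refine KInfinity.iterCommutator_le_of_sup hc ?_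
      refine (KInfinity.iterCommutator_antitone _ _ (show 3 ≤ 4 by omega)).trans ?_
      exact (h3 _ _ (KInfinity.IsChiefFactor.inf_left hUV hc) inf_le_right).trans inf_le_left
    · exact fun u hu => hc ⟨KInfinity.iterCommutator_le_normal U A 4 hu,
        h4 (KInfinity.iterCommutator_mono' A hU 4 hu)⟩
  · push Not at hf
    refine KInfinity.iterCommutator_le_of_critical h.pp h.qp h.pq hcent
      (i := 5) (j := 2) (by norm_num) (fun U V _ hU => ?_) fun U V _ hU => ?_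
    · exact (KInfinity.iterCommutator_mono' A hU 5).trans ((h.five hPT hf).le.trans bot_le)
    · exact (hW.iter_two_le hU fun x hx a ha b hb =>
        mem_bot.mpr (not_failing_iff.mp (hf x (hU hx)) a ha b hb)).trans bot_le

end Cfsg.Agent.Lib.JTransfer
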