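import Cfsg.Agent.Lib.ThompsonA.Basic

/-!
# An abelian subgroup of largest order acting on an abelian subgroup it normalises

`W` is abelian and normalised by the abelian subgroup `A` of largest order of a `p`-group `T`
containing both; `P` is a subgroup such that `A` is optimal for `W` among the members outside `P`.
-/

set_option autoImplicit false

namespace Cfsg.Agent.Lib.JTransfer

open Subgroup Cfsg
open scoped commutatorElement

variable {G : Type*} [Group G]

/-- The product of two subgroup orders is bounded through the join and the meet. -/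
theorem card_mul_card_le [Finite G] (H K : Subgroup G) :
    Nat.card H * Nat.card K ≤ Nat.card ↥(H ⊔ K) * Nat.card ↥(H ⊓ K) := by
  have h1 : Nat.card ↥(H ⊓ K) * K.relIndex H = Nat.card H := by
    rw [← inf_relIndex_left H K, ← relIndex_bot_left, ← relIndex_bot_left,
      relIndex_mul_relIndex _ _ _ bot_le inf_le_left]
  have h2 : Nat.card K * K.relIndex (H ⊔ K) = Nat.card ↥(H ⊔ K) := by
    rw [← relIndex_bot_left, ← relIndex_bot_left,
      relIndex_mul_relIndex _ _ _ bot_le le_sup_right]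
  have h3 : K.relIndex H ≤ K.relIndex (H ⊔ K) :=
    relIndex_le_of_le_right le_sup_left index_ne_zero_of_finite
  calc Nat.card H * Nat.card K = Nat.card ↥(H ⊓ K) * (Nat.card K * K.relIndex H) := by
        rw [← h1]; ring
    _ ≤ Nat.card ↥(H ⊓ K) * (Nat.card K * K.relIndex (H ⊔ K)) := by gcongr
    _ = _ := by rw [h2, Nat.mul_comm]

/-- `⁅X, A⁆ ≤ X` when `A` normalises `X`. -/
theorem commutator_le_of_normalizer {X A : Subgroup G} (h : A ≤ normalizer (X : Set G)) :
    ⁅X, A⁆ ≤ X :=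
  le_normalizer_iff_commutator_le_left.mp h

/-- In a `p`-group, a subgroup inside its commutator with a subgroup is trivial. -/
theorem eq_bot_of_le_commutator [Finite G] {p : ℕ} [Fact p.Prime] {T X : Subgroup G}
    (hT : IsPGroup p T) (hX : X ≤ T) (h : X ≤ ⁅X, T⁆) : X = ⊥ := by
  have := hT.isNilpotent
  obtain ⟨n, hn⟩ := Subgroup.nilpotent_iff_lowerCentralSeries.mp
    (inferInstance : Group.IsNilpotent T)
  have hle : ∀ k, X ≤ (Subgroup.lowerCentralSeries (⊤ : Subgroup T) k).map T.subtype := by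
    intro k
    induction k with
    | zero =>
      rw [Subgroup.lowerCentralSeries_zero, ← MonoidHom.range_eq_map, range_subtype]
      exact hX
    | succ k ih =>
      rw [Subgroup.lowerCentralSeries_succ, map_commutator, ← MonoidHom.range_eq_map,
        range_subtype]
      exact h.trans (commutator_mono ih le_rfl)
  simpa [hn] using hle n

/-- A nested family of commutators with `T` starting in a `p`-group `T` ends trivially. -/
theorem exists_iterCommutator_eq_bot [Finite G] {p : ℕ} [Fact p.Prime] {T X : Subgroup G}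
    (hT : IsPGroup p T) (hX : X ≤ T) : ∃ n, iterCommutator X T n = ⊥ := by
  have := hT.isNilpotent
  obtain ⟨n, hn⟩ := Subgroup.nilpotent_iff_lowerCentralSeries.mp
    (inferInstance : Group.IsNilpotent T)
  have hle : ∀ k, iterCommutator X T k ≤
      (Subgroup.lowerCentralSeries (⊤ : Subgroup T) k).map T.subtype := by
    intro k
    induction k with
    | zero =>
      rw [Subgroup.lowerCentralSeries_zero, ← MonoidHom.range_eq_map, range_subtype]
      exact hX
    | succ k ih =>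
      rw [Subgroup.lowerCentralSeries_succ, map_commutator, ← MonoidHom.range_eq_map,
        range_subtype]
      exact commutator_mono ih le_rfl
  exact ⟨n, by simpa [hn] using hle n⟩

/-- `W` is abelian and normalised by `A`. -/
structure Acts (A W : Subgroup G) : Prop where
  le : A ≤ normalizer (W : Set G)
  comm : ∀ x ∈ W, ∀ y ∈ W, x * y = y * x

variable {A W : Subgroup G}

theorem Acts.mem (h : Acts A W) {a x : G} (ha : a ∈ A) (hx : x ∈ W) : ⁅a, x⁆ ∈ W :=
  W.mul_mem ((mem_normalizer_iff.mp (h.le ha) x).mp hx) (W.inv_mem hx)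

theorem Acts.map_mul (h : Acts A W) {a x y : G} (ha : a ∈ A) (hx : x ∈ W) (hy : y ∈ W) :
    ⁅a, x * y⁆ = ⁅a, x⁆ * ⁅a, y⁆ := by
  have e : ⁅a, x * y⁆ = ⁅a, x⁆ * (x * ⁅a, y⁆ * x⁻¹) := by
    simp [commutatorElement_def, mul_assoc]
  rw [e, h.comm x hx _ (h.mem ha hy), mul_inv_cancel_right]

theorem Acts.map_inv (h : Acts A W) {a x : G} (ha : a ∈ A) (hx : x ∈ W) :
    ⁅a, x⁻¹⁆ = ⁅a, x⁆⁻¹ := by
  refine eq_inv_of_mul_eq_one_right ?_
  rw [← h.map_mul ha hx (W.inv_mem hx), mul_inv_cancel, commutatorElement_one_right]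

theorem Acts.swap (h : Acts A W) {a b x : G} (ha : a ∈ A) (hb : b ∈ A) (hab : a * b = b * a)
    (hx : x ∈ W) : ⁅a, ⁅b, x⁆⁆ = ⁅b, ⁅a, x⁆⁆ := by
  have conj : ∀ {c y : G}, c ∈ normalizer (W : Set G) → y ∈ W → c * y * c⁻¹ ∈ W :=
    fun hc hy => (mem_normalizer_iff.mp hc _).mp hy
  have hu : a * x⁻¹ * a⁻¹ ∈ W := conj (h.le ha) (W.inv_mem hx)
  have hv : b * x⁻¹ * b⁻¹ ∈ W := conj (h.le hb) (W.inv_mem hx)
  have e1 : ⁅a, ⁅b, x⁆⁆ =
      a * b * x * (a * b)⁻¹ * (a * x⁻¹ * a⁻¹) * x * (b * x⁻¹ * b⁻¹) := by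
    simp [commutatorElement_def, mul_assoc]
  have e2 : ⁅b, ⁅a, x⁆⁆ =
      b * a * x * (b * a)⁻¹ * (b * x⁻¹ * b⁻¹) * x * (a * x⁻¹ * a⁻¹) := by
    simp [commutatorElement_def, mul_assoc]
  rw [e1, e2, ← hab]
  set w := a * b * x * (a * b)⁻¹
  set u := a * x⁻¹ * a⁻¹
  set v := b * x⁻¹ * b⁻¹
  calc w * u * x * v = w * ((u * x) * v) := by simp [mul_assoc]
    _ = w * (v * (u * x)) := by rw [h.comm _ (W.mul_mem hu hx) v hv]
    _ = w * (v * (x * u)) := by rw [h.comm u hu x hx]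
    _ = w * v * x * u := by simp [mul_assoc]

/-- The elements of `W` whose commutators with `A` lie in `N`. -/
def Acts.pre (h : Acts A W) (N : Subgroup G) : Subgroup G where
  carrier := {x | x ∈ W ∧ ∀ a ∈ A, ⁅a, x⁆ ∈ N}
  one_mem' := ⟨W.one_mem, fun a _ => by rw [commutatorElement_one_right]; exact N.one_mem⟩
  mul_mem' := fun {x y} hx hy => ⟨W.mul_mem hx.1 hy.1, fun a ha => by
    rw [h.map_mul ha hx.1 hy.1]; exact N.mul_mem (hx.2 a ha) (hy.2 a ha)⟩
  inv_mem' := fun {x} hx => ⟨W.inv_mem hx.1, fun a ha => by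
    rw [h.map_inv ha hx.1]; exact N.inv_mem (hx.2 a ha)⟩

theorem Acts.mem_pre {h : Acts A W} {N : Subgroup G} {x : G} :
    x ∈ h.pre N ↔ x ∈ W ∧ ∀ a ∈ A, ⁅a, x⁆ ∈ N := Iff.rfl

theorem Acts.commutator_pre_le (h : Acts A W) (N : Subgroup G) : ⁅h.pre N, A⁆ ≤ N := by
  rw [commutator_le]
  intro x hx a ha
  rw [← commutatorElement_inv]
  exact N.inv_mem (hx.2 a ha)

/-- Second commutators landing in `N`. -/
theorem Acts.iter_two_le (h : Acts A W) {X N : Subgroup G} (hX : X ≤ W)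
    (H : ∀ x ∈ X, ∀ a ∈ A, ∀ b ∈ A, ⁅b, ⁅a, x⁆⁆ ∈ N) : iterCommutator X A 2 ≤ N := by
  have h1 : X ≤ h.pre (h.pre N) := fun x hx =>
    ⟨hX hx, fun a ha => ⟨h.mem ha (hX hx), fun b hb => H x hx a ha b hb⟩⟩
  exact (commutator_mono ((commutator_mono h1 le_rfl).trans (h.commutator_pre_le _)) le_rfl).trans
    (h.commutator_pre_le N)

/-- Third commutators landing in `N`. -/
theorem Acts.iter_three_le (h : Acts A W) {X N : Subgroup G} (hX : X ≤ W)
    (H : ∀ x ∈ X, ∀ a ∈ A, ∀ b ∈ A, ∀ e ∈ A, ⁅e, ⁅b, ⁅a, x⁆⁆⁆ ∈ N) :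
    iterCommutator X A 3 ≤ N := by
  have h1 : X ≤ h.pre (h.pre (h.pre N)) := fun x hx =>
    ⟨hX hx, fun a ha => ⟨h.mem ha (hX hx), fun b hb =>
      ⟨h.mem hb (h.mem ha (hX hx)), fun e he => H x hx a ha b hb e he⟩⟩⟩
  exact (commutator_mono ((commutator_mono ((commutator_mono h1 le_rfl).trans
    (h.commutator_pre_le _)) le_rfl).trans (h.commutator_pre_le _)) le_rfl).trans
    (h.commutator_pre_le N)

/-- The span of the commutators of `A` with one element. -/
def span (A : Subgroup G) (x : G) : Subgroup G :=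
  closure ((fun a => ⁅a, x⁆) '' (A : Set G))

theorem mem_span {a x : G} (ha : a ∈ A) : ⁅a, x⁆ ∈ span A x := subset_closure ⟨a, ha, rfl⟩

theorem Acts.span_le (h : Acts A W) {x : G} (hx : x ∈ W) : span A x ≤ W :=
  (closure_le W).mpr (by rintro _ ⟨a, ha, rfl⟩; exact h.mem ha hx)

theorem span_normalised (A : Subgroup G) (x : G) : A ≤ normalizer (span A x : Set G) := by
  have key : ∀ e ∈ A, ∀ z ∈ span A x, e * z * e⁻¹ ∈ span A x := by
    intro e he z hz
    have hmap : (span A x).map (MulAut.conj e).toMonoidHom ≤ span A x := by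
      rw [span, MonoidHom.map_closure, closure_le]
      rintro _ ⟨_, ⟨a, ha, rfl⟩, rfl⟩
      have e1 : e * ⁅a, x⁆ * e⁻¹ = ⁅e * a, x⁆ * ⁅e, x⁆⁻¹ := by
        simp [commutatorElement_def, mul_assoc]
      show e * ⁅a, x⁆ * e⁻¹ ∈ span A x
      rw [e1]
      exact mul_mem (mem_span (A.mul_mem he ha)) (inv_mem (mem_span he))
    exact hmap (mem_map_of_mem (MulAut.conj e).toMonoidHom hz)
  intro e he
  rw [mem_normalizer_iff]
  refine fun z => ⟨key e he z, fun hz => ?_⟩
  simpa [mul_assoc] using key e⁻¹ (A.inv_mem he) _ hz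

/-- `A` is an abelian subgroup of largest order of the `p`-group `T`, which contains `W`. -/
structure Setting (p : ℕ) (T A W : Subgroup G) : Prop extends Acts A W where
  pgroup : IsPGroup p T
  max : A ∈ ThompsonA.maxAbIn T
  leT : W ≤ T

variable {p : ℕ} {T : Subgroup G}

theorem Setting.commA (h : Setting p T A W) {a b : G} (ha : a ∈ A) (hb : b ∈ A) : a * b = b * a :=
  congrArg Subtype.val (h.max.1.is_comm.comm ⟨a, ha⟩ ⟨b, hb⟩)

/-- The centraliser in `T` of a member of largest order lies in it. -/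
theorem mem_of_centralizes [Finite G] {T B : Subgroup G} (hB : B ∈ ThompsonA.maxAbIn T) {t : G}
    (ht : t ∈ T) (hc : ∀ b ∈ B, b * t = t * b) : t ∈ B := by
  have hcomm : IsMulCommutative ↥(closure ((B : Set G) ∪ {t})) := by
    refine isMulCommutative_closure ?_
    rintro u (hu | rfl) v (hv | rfl)
    · exact congrArg Subtype.val (hB.1.is_comm.comm ⟨u, hu⟩ ⟨v, hv⟩)
    · exact hc u hu
    · exact (hc v hv).symm
    · rfl
  have hle : closure ((B : Set G) ∪ {t}) ≤ T :=
    (closure_le T).mpr (Set.union_subset hB.2.1 (Set.singleton_subset_iff.mpr ht))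
  have hBle : B ≤ closure ((B : Set G) ∪ {t}) := fun b hb => subset_closure (Or.inl hb)
  have heq := eq_of_le_of_card_ge hBle (hB.2.2 _ hcomm hle)
  exact heq.symm ▸ subset_closure (Or.inr rfl)

theorem Setting.span_commute (h : Setting p T A W) {x : G} (hx : x ∈ W) {u v : G}
    (hu : u ∈ span A x) (hv : v ∈ span A x) : u * v = v * u :=
  h.comm u (h.span_le hx hu) v (h.span_le hx hv)

/-- Thompson replacement, with the count attached. -/
theorem Setting.replacement [Finite G] (h : Setting p T A W) {x : G} (hx : x ∈ W) :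
    span A x ⊔ A ⊓ centralizer (span A x : Set G) ∈ ThompsonA.maxAbIn T ∧
      Nat.card (span A x) * Nat.card ↥(A ⊓ centralizer (span A x : Set G)) =
        Nat.card A * Nat.card ↥(span A x ⊓ A) ∧
      ∀ z ∈ span A x, ∃ c ∈ A, ⁅c, x⁆⁻¹ * z ∈ A := by
  classical
  set M := span A x with hM
  set C := A ⊓ centralizer (M : Set G) with hC
  have hMC : M ⊓ C ≤ M ⊓ A := inf_le_inf_left M inf_le_left
  have hMA : M ⊓ A ≤ M ⊓ C := fun m hm =>
    ⟨hm.1, hm.2, fun u hu => h.span_commute hx hu hm.1⟩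
  have heq : M ⊓ C = M ⊓ A := le_antisymm hMC hMA
  have hcomm : IsMulCommutative ↥(M ⊔ C) := by
    rw [show M ⊔ C = closure ((M : Set G) ∪ (C : Set G)) by
      rw [Subgroup.closure_union, Subgroup.closure_eq, Subgroup.closure_eq]]
    refine isMulCommutative_closure ?_
    rintro u (hu | hu) v (hv | hv)
    · exact h.span_commute hx hu hv
    · exact hv.2 u hu
    · exact (hu.2 v hv).symm
    · exact h.commA hu.1 hv.1
  have hle : M ⊔ C ≤ T :=
    sup_le ((h.span_le hx).trans h.leT) (inf_le_left.trans h.max.2.1)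
  -- the injection
  let q : ↥A ⧸ C.subgroupOf A → ↥M ⧸ A.subgroupOf M := fun c =>
    ((⟨⁅((c.out : ↥A) : G), x⁆, mem_span c.out.2⟩ : ↥M) : ↥M ⧸ A.subgroupOf M)
  have hq : Function.Injective q := by
    intro c d hcd
    simp only [q] at hcd
    rw [QuotientGroup.eq, mem_subgroupOf] at hcd
    rw [← c.out_eq', ← d.out_eq', QuotientGroup.eq, mem_subgroupOf]
    generalize c.out = a at hcd ⊢
    generalize d.out = b at hcd ⊢
    obtain ⟨a, ha⟩ := a
    obtain ⟨b, hb⟩ := b
    simp only [Subgroup.coe_mul, Subgroup.coe_inv] at hcd ⊢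
    set f := a⁻¹ * b with hf
    have hfA : f ∈ A := A.mul_mem (A.inv_mem ha) hb
    have e1 : a * ⁅f, x⁆ * a⁻¹ = ⁅b, x⁆ * ⁅a, x⁆⁻¹ := by
      simp [hf, commutatorElement_def, mul_assoc]
    rw [h.comm _ (h.mem hb hx) _ (W.inv_mem (h.mem ha hx))] at e1
    have hfx : ⁅f, x⁆ ∈ A := by
      have := A.mul_mem (A.mul_mem (A.inv_mem ha) (e1 ▸ hcd)) ha
      simpa [mul_assoc] using this
    refine ⟨hfA, ?_⟩
    have hle' : M ≤ centralizer ({f} : Set G) := by
      rw [hM, span, closure_le]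
      rintro _ ⟨e, he, rfl⟩
      rw [SetLike.mem_coe, mem_centralizer_singleton_iff]
      have h1 : ⁅f, ⁅e, x⁆⁆ = 1 := by
        rw [h.swap hfA he (h.commA hfA he) hx]
        exact commutatorElement_eq_one_iff_mul_comm.mpr (h.commA he hfx)
      exact (commutatorElement_eq_one_iff_mul_comm.mp h1).symm
    exact fun m hm => mem_centralizer_singleton_iff.mp (hle' hm)
  have hr : C.relIndex A ≤ A.relIndex M := Nat.card_le_card_of_injective q hq
  have eA : Nat.card C * C.relIndex A = Nat.card A := by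
    rw [← relIndex_bot_left, ← relIndex_bot_left,
      relIndex_mul_relIndex _ _ _ bot_le inf_le_left]
  have eM : Nat.card ↥(M ⊓ A) * A.relIndex M = Nat.card M := by
    rw [← inf_relIndex_left M A, ← relIndex_bot_left, ← relIndex_bot_left,
      relIndex_mul_relIndex _ _ _ bot_le inf_le_left]
  have hprod := card_mul_card_le M C
  rw [heq] at hprod
  have hmax := h.max.2.2 _ hcomm hle
  have hC0 : 0 < Nat.card C := Nat.card_pos
  have hMA0 : 0 < Nat.card ↥(M ⊓ A) := Nat.card_pos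
  have hge : A.relIndex M ≤ C.relIndex A := by
    have h1 : Nat.card M * Nat.card C ≤ Nat.card A * Nat.card ↥(M ⊓ A) :=
      hprod.trans (Nat.mul_le_mul_right _ hmax)
    rw [← eA, ← eM] at h1
    refine Nat.le_of_mul_le_mul_left ?_ (Nat.mul_pos hC0 hMA0)
    calc Nat.card C * Nat.card ↥(M ⊓ A) * A.relIndex M
        = Nat.card ↥(M ⊓ A) * A.relIndex M * Nat.card C := by ring
      _ ≤ Nat.card C * C.relIndex A * Nat.card ↥(M ⊓ A) := h1
      _ = Nat.card C * Nat.card ↥(M ⊓ A) * C.relIndex A := by ring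
  have hre : C.relIndex A = A.relIndex M := le_antisymm hr hge
  have hcount : Nat.card M * Nat.card C = Nat.card A * Nat.card ↥(M ⊓ A) := by
    rw [← eA, ← eM, hre]; ring
  refine ⟨⟨hcomm, hle, fun B hB hBT => (h.max.2.2 B hB hBT).trans ?_⟩, hcount, fun z hz => ?_⟩
  · exact Nat.le_of_mul_le_mul_right (hcount.symm.le.trans hprod) hMA0
  · obtain ⟨c, hc⟩ := ((Nat.bijective_iff_injective_and_card q).mpr ⟨hq, hre⟩).2
      ((⟨z, hz⟩ : ↥M) : ↥M ⧸ A.subgroupOf M)
    simp only [q] at hc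
    rw [QuotientGroup.eq, mem_subgroupOf] at hc
    exact ⟨_, c.out.2, hc⟩

/-- `x` is not killed by the products of two commutations. -/
def Failing (A : Subgroup G) (x : G) : Prop := ∃ a ∈ A, ∃ b ∈ A, ⁅b, ⁅a, x⁆⁆ ≠ 1

theorem not_failing_iff {x : G} :
    ¬ Failing A x ↔ ∀ a ∈ A, ∀ b ∈ A, ⁅b, ⁅a, x⁆⁆ = 1 := by
  simp [Failing]

/-- `A` is optimal for `W` among the members outside `P`. -/
def Optimal (T P A W : Subgroup G) : Prop :=
  ∀ B ∈ ThompsonA.maxAbIn T, ¬ B ≤ P → A ⊓ W ≤ B → B ⊓ W ≤ A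

variable {P : Subgroup G}

theorem Setting.centralizer_le_of_failing [Finite G] (h : Setting p T A W)
    (ho : Optimal T P A W) {y : G} (hy : y ∈ W) (hf : Failing A y) :
    A ⊓ centralizer (span A y : Set G) ≤ P := by
  by_contra hP
  obtain ⟨a, ha, b, hb, hne⟩ := hf
  obtain ⟨hmem, -, -⟩ := h.replacement hy
  have hAW : A ⊓ W ≤ span A y ⊔ A ⊓ centralizer (span A y : Set G) := fun u hu =>
    mem_sup_right ⟨hu.1, fun v hv => h.comm v (h.span_le hy hv) u hu.2⟩
  have := ho _ hmem (fun hle => hP (le_sup_right.trans hle)) hAW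
    ⟨mem_sup_left (mem_span ha), h.mem ha hy⟩
  exact hne (commutatorElement_eq_one_iff_mul_comm.mpr (h.commA hb this))

theorem Setting.span_lt [Finite G] [Fact p.Prime] (h : Setting p T A W) {y : G} (hy : y ∈ W)
    (hf : Failing A y) {e : G} (he : e ∈ A) :
    Nat.card (span A ⁅e, y⁆) < Nat.card (span A y) := by
  have hMT : span A y ≤ T := (h.span_le hy).trans h.leT
  have hle : span A ⁅e, y⁆ ≤ ⁅span A y, A⁆ := by
    rw [span, closure_le]
    rintro _ ⟨a, ha, rfl⟩
    show ⁅a, ⁅e, y⁆⁆ ∈ ⁅span A y, A⁆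
    rw [← commutatorElement_inv]
    exact inv_mem (commutator_mem_commutator (mem_span he) ha)
  have hle2 : ⁅span A y, A⁆ ≤ span A y := commutator_le_of_normalizer (span_normalised A y)
  by_contra hlt
  have heq : span A ⁅e, y⁆ = span A y :=
    eq_of_le_of_card_ge (hle.trans hle2) (not_lt.mp hlt)
  have hbot := eq_bot_of_le_commutator h.pgroup hMT
    (heq.symm.le.trans (hle.trans (commutator_mono le_rfl h.max.2.1)))
  obtain ⟨a, ha, b, hb, hne⟩ := hf
  have h1 : ⁅a, y⁆ = 1 := mem_bot.mp (hbot.le (mem_span ha))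
  exact hne (by rw [h1, commutatorElement_one_right])

/-- A failing element all of whose commutators with `A` are not failing. -/
theorem Setting.exists_minimal_failing [Finite G] [Fact p.Prime] (h : Setting p T A W)
    (hf : ∃ y ∈ W, Failing A y) :
    ∃ y ∈ W, Failing A y ∧ ∀ e ∈ A, ¬ Failing A ⁅e, y⁆ := by
  obtain ⟨y, ⟨hy, hfy⟩, hmin⟩ := Set.exists_min_image {y | y ∈ W ∧ Failing A y}
    (fun y => Nat.card (span A y)) (Set.toFinite _) hf
  refine ⟨y, hy, hfy, fun e he hfe => ?_⟩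
  have h1 := h.span_lt hy hfy he
  have h2 := hmin ⁅e, y⁆ ⟨h.mem he hy, hfe⟩
  omega

/-- **The product lemma**: a double commutation can be replaced by one with an element of `P`. -/
theorem Setting.exists_product [Finite G] [Fact p.Prime] (h : Setting p T A W)
    (ho : Optimal T P A W) {x a b : G} (hx : x ∈ W) (ha : a ∈ A) (hb : b ∈ A) :
    ∃ c ∈ A ⊓ P, ∀ e ∈ A, ⁅e, ⁅b, ⁅a, x⁆⁆⁆ = ⁅e, ⁅c, x⁆⁆ := by
  by_cases hf : Failing A x
  swap
  · refine ⟨1, one_mem _, fun e _ => ?_⟩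
    rw [not_failing_iff.mp hf a ha b hb, commutatorElement_one_left]
  have hz : ⁅b, ⁅a, x⁆⁆ ∈ span A x :=
    mul_mem ((mem_normalizer_iff.mp (span_normalised A x hb) _).mp (mem_span ha))
      (inv_mem (mem_span ha))
  obtain ⟨c, hc, hcz⟩ := (h.replacement hx).2.2 _ hz
  have hcx := h.mem hc hx
  have heq : ∀ e ∈ A, ⁅e, ⁅b, ⁅a, x⁆⁆⁆ = ⁅e, ⁅c, x⁆⁆ := by
    intro e he
    have e1 : ⁅b, ⁅a, x⁆⁆ = ⁅c, x⁆ * (⁅c, x⁆⁻¹ * ⁅b, ⁅a, x⁆⁆) :=
      (mul_inv_cancel_left _ _).symm
    rw [e1, h.map_mul he hcx (W.mul_mem (W.inv_mem hcx) (h.mem hb (h.mem ha hx))),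
      commutatorElement_eq_one_iff_mul_comm.mpr (h.commA he hcz), mul_one]
  refine ⟨c, ⟨hc, ?_⟩, heq⟩
  obtain ⟨y, ⟨hy, hfy, hye⟩, hmin⟩ := Set.exists_min_image
    {y | y ∈ W ∧ Failing A y ∧ ∀ e ∈ A, ⁅e, ⁅b, ⁅a, y⁆⁆⁆ = ⁅e, ⁅c, y⁆⁆}
    (fun y => Nat.card (span A y)) (Set.toFinite _) ⟨x, hx, hf, heq⟩
  have hnf : ∀ f ∈ A, ¬ Failing A ⁅f, y⁆ := by
    intro f hfA hff
    have hlt := h.span_lt hy hfy hfA
    have hle := hmin ⁅f, y⁆ ⟨h.mem hfA hy, hff, fun e he => by
      rw [h.swap ha hfA (h.commA ha hfA) hy, h.swap hb hfA (h.commA hb hfA) (h.mem ha hy),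
        h.swap he hfA (h.commA he hfA) (h.mem hb (h.mem ha hy)), hye e he,
        h.swap hc hfA (h.commA hc hfA) hy, h.swap he hfA (h.commA he hfA) (h.mem hc hy)]⟩
    omega
  refine h.centralizer_le_of_failing ho hy hfy ⟨hc, ?_⟩
  have hle' : span A y ≤ centralizer ({c} : Set G) := by
    rw [span, closure_le]
    rintro _ ⟨e, he, rfl⟩
    rw [SetLike.mem_coe, mem_centralizer_singleton_iff]
    have h1 : ⁅c, ⁅e, y⁆⁆ = 1 := by
      rw [h.swap hc he (h.commA hc he) hy, ← hye e he]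
      exact not_failing_iff.mp (hnf a ha) b hb e he
    exact (commutatorElement_eq_one_iff_mul_comm.mp h1).symm
  exact fun m hm => mem_centralizer_singleton_iff.mp (hle' hm)

end Cfsg.Agent.Lib.JTransfer
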