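import Cfsg.Agent.Lib.JTransfer.Degree
import Cfsg.Agent.Lib.KInfinity.Quartic
import Cfsg.Agent.Lib.KInfinity.Transfer
import Cfsg.Agent.Lib.OffenderJ.Main
import Cfsg.Agent.Lib.Transfer.Criteria

/-!
# For `p ≥ 7`, `N(J(S))` controls transfer, `J` being generated by abelian subgroups of largest order
-/

set_option autoImplicit false

namespace Cfsg.Agent.Lib.JTransfer

open Subgroup Cfsg
open scoped commutatorElement

universe u

variable {p : ℕ} [Fact p.Prime]

theorem exists_big_abelian {G : Type*} [Group G] [Finite G] {T Z Q : Subgroup G}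
    (hT : IsPGroup p T) (hQT : Q ≤ T) (hZQ : Z ≤ Q) (hQn : Q.Normal) (hZn : Z.Normal)
    (hZc : ∀ x ∈ Z, ∀ y ∈ Q, x * y = y * x) :
    ∃ E : Subgroup G, E ≤ Q ∧ Z ≤ E ∧ T ≤ normalizer (E : Set G) ∧
      (∀ x ∈ E, ∀ y ∈ E, x * y = y * x) ∧ Q ⊓ centralizer (E : Set G) ≤ E := by
  obtain ⟨E, hE, hmax⟩ := Set.exists_max_image
    {E : Subgroup G | E ≤ Q ∧ Z ≤ E ∧ T ≤ normalizer (E : Set G) ∧
      ∀ x ∈ E, ∀ y ∈ E, x * y = y * x}
    (fun E : Subgroup G => Nat.card E) (Set.toFinite _)
    ⟨Z, hZQ, le_rfl, by rw [normalizer_eq_top_iff.mpr hZn]; exact le_top,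
      fun x hx y hy => hZc x hx y (hZQ hy)⟩
  obtain ⟨hEQ, hZE, hTE, hEc⟩ := hE
  refine ⟨E, hEQ, hZE, hTE, hEc, ?_⟩
  by_contra hnot
  set X := Q ⊓ centralizer (E : Set G) with hX
  have hXn : ⁅X, T⁆ ≤ X := by
    refine le_inf ((commutator_mono inf_le_left le_rfl).trans (commutator_le_left Q T)) ?_
    rw [commutator_le]
    intro x hx t ht
    have hc : t * x⁻¹ * t⁻¹ ∈ centralizer (E : Set G) := by
      intro e he
      have he' : t⁻¹ * e * t ∈ E := (mem_normalizer_iff''.mp (hTE ht) e).mp he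
      have h1 := (inv_mem hx.2 : x⁻¹ ∈ centralizer (E : Set G)) _ he'
      calc e * (t * x⁻¹ * t⁻¹) = t * (t⁻¹ * e * t * x⁻¹) * t⁻¹ := by group
        _ = t * (x⁻¹ * (t⁻¹ * e * t)) * t⁻¹ := by rw [h1]
        _ = t * x⁻¹ * t⁻¹ * e := by group
    have e : ⁅x, t⁆ = x * (t * x⁻¹ * t⁻¹) := by simp [commutatorElement_def, mul_assoc]
    rw [e]
    exact mul_mem hx.2 hc
  obtain ⟨n, hn⟩ := exists_iterCommutator_eq_bot hT (show X ≤ T from inf_le_left.trans hQT)
  classical
  have hex : ∃ k, iterCommutator X T k ≤ E := ⟨n, hn.le.trans bot_le⟩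
  obtain ⟨k, hk⟩ : ∃ k, Nat.find hex = k + 1 := Nat.exists_eq_succ_of_ne_zero fun h0 =>
    hnot (h0 ▸ Nat.find_spec hex : iterCommutator X T 0 ≤ E)
  have hle : ∀ m, iterCommutator X T m ≤ X := by
    intro m
    induction m with
    | zero => exact le_rfl
    | succ m ih => exact (commutator_mono ih le_rfl).trans hXn
  have hnk : ¬ iterCommutator X T k ≤ E := Nat.find_min hex (by omega)
  obtain ⟨x, hx, hxE⟩ := SetLike.not_le_iff_exists.mp hnk
  have hcomm : ∀ t ∈ T, ⁅t, x⁆ ∈ E := by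
    intro t ht
    rw [← commutatorElement_inv]
    have h := hk ▸ Nat.find_spec hex
    exact inv_mem (h (commutator_mem_commutator hx ht))
  set E' := closure ((E : Set G) ∪ {x}) with hE'
  have hEE' : E ≤ E' := fun e he => subset_closure (Or.inl he)
  have hxE' : x ∈ E' := subset_closure (Or.inr rfl)
  have hxX := hle k hx
  have hgen : ∀ t ∈ T, E'.map (MulAut.conj t).toMonoidHom ≤ E' := by
    intro t ht
    rw [hE', MonoidHom.map_closure, closure_le]
    rintro _ ⟨u, hu | hu, rfl⟩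
    · exact hEE' ((mem_normalizer_iff.mp (hTE ht) u).mp hu)
    · rw [Set.mem_singleton_iff] at hu
      subst hu
      show t * u * t⁻¹ ∈ E'
      have e : t * u * t⁻¹ = ⁅t, u⁆ * u := by simp [commutatorElement_def, mul_assoc]
      rw [e]
      exact mul_mem (hEE' (hcomm t ht)) hxE'
  have hmem : E' ∈ {E : Subgroup G | E ≤ Q ∧ Z ≤ E ∧ T ≤ normalizer (E : Set G) ∧
      ∀ x ∈ E, ∀ y ∈ E, x * y = y * x} := by
    refine ⟨(closure_le Q).mpr (Set.union_subset hEQ (Set.singleton_subset_iff.mpr hxX.1)),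
      hZE.trans hEE', fun t ht => mem_normalizer_iff.mpr fun u =>
        ⟨fun hu => hgen t ht (mem_map_of_mem _ hu), fun hu => ?_⟩, ?_⟩
    · simpa [mul_assoc] using hgen t⁻¹ (inv_mem ht) (mem_map_of_mem _ hu)
    · have hcl : IsMulCommutative ↥E' := by
        refine isMulCommutative_closure ?_
        rintro u (hu | hu) v (hv | hv)
        · exact hEc u hu v hv
        · rw [Set.mem_singleton_iff.mp hv]; exact hxX.2 u hu
        · rw [Set.mem_singleton_iff.mp hu]; exact (hxX.2 v hv).symm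
        · rw [Set.mem_singleton_iff.mp hu, Set.mem_singleton_iff.mp hv]
      exact fun u hu v hv => congrArg Subtype.val (hcl.is_comm.comm ⟨u, hu⟩ ⟨v, hv⟩)
  exact hxE ((eq_of_le_of_card_ge hEE' (hmax E' hmem)).symm ▸ hxE' : x ∈ E)

/-- If `J(T)` is not normal some abelian subgroup of largest order of `T` is outside `O_p`. -/
theorem exists_not_le_pCore {Y : Type*} [Group Y] [Finite Y] (T : Sylow p Y)
    (h : ¬ (Cfsg.thompsonSubgroupAOf (T : Subgroup Y)).Normal) :
    ∃ A ∈ ThompsonA.maxAbIn (T : Subgroup Y), ¬ A ≤ pCore p Y := by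
  by_contra hcon
  push Not at hcon
  have := KInfinity.pCore_normal' (G := Y) (p := p)
  have hle : Cfsg.thompsonSubgroupAOf (T : Subgroup Y) ≤ pCore p Y := by
    rw [ThompsonA.thompsonSubgroupAOf_eq_sSup]
    exact sSup_le hcon
  refine h ?_
  rw [← ThompsonA.thompsonSubgroupAOf_eq_of_le hle (PSolvable.pCore_le_sylow T),
    ← normalizer_eq_top_iff, eq_top_iff]
  refine le_trans ?_ (ThompsonA.normalizer_le (pCore p Y))
  rw [normalizer_eq_top_iff.mpr this]

/-- Some element outside `O_p` acts with degree at most six on the chief factors below `O_p`. -/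
theorem smallDegree_jFun (hp : 7 ≤ p) (Y : Type u) [Group Y] [Finite Y] :
    Functor.SmallDegree p OffenderJ.jFun Y := by
  classical
  intro T hnn
  obtain ⟨Q, hQ, hcent⟩ := KInfinity.exists_isCriticalIn (G := Y) p
  have hQn := hQ.normal
  have hPn := KInfinity.pCore_normal' (G := Y) (p := p)
  set P := pCore p Y with hPdef
  have hPp : IsPGroup p P := PSolvable.pCore_isPGroup
  have hPT : P ≤ (T : Subgroup Y) := PSolvable.pCore_le_sylow T
  set Z := Q ⊓ centralizer (Q : Set Y) with hZdef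
  have hZn : Z.Normal := inferInstance
  have hZc : ∀ x ∈ Z, ∀ y ∈ Q, x * y = y * x := fun x hx y hy => (hx.2 y hy).symm
  obtain ⟨E, hEQ, hZE, hTE, hEc, hself⟩ := exists_big_abelian T.2 (hQ.le.trans hPT)
    inf_le_left hQn hZn hZc
  have hne := exists_not_le_pCore T hnn
  obtain ⟨A, ⟨hA, hAP⟩, hbest⟩ := Set.exists_max_image
    {A | A ∈ ThompsonA.maxAbIn (T : Subgroup Y) ∧ ¬ A ≤ P}
    (fun A : Subgroup Y => Nat.card ↥(A ⊓ Z) * (Nat.card Y + 1) + Nat.card ↥(A ⊓ E))
    (Set.toFinite _) (by obtain ⟨A, h1, h2⟩ := hne; exact ⟨A, h1, h2⟩)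
  have hlt : ∀ H : Subgroup Y, Nat.card H < Nat.card Y + 1 := fun H =>
    Nat.lt_succ_of_le (card_le_card_group H)
  have hzopt : Optimal (T : Subgroup Y) P A Z := by
    intro B hB hBP hle
    have h1 := hbest B ⟨hB, hBP⟩
    have h2 : A ⊓ Z ≤ B ⊓ Z := le_inf hle inf_le_right
    have h3 := Subgroup.card_le_of_le h2
    have h4 : Nat.card ↥(B ⊓ Z) ≤ Nat.card ↥(A ⊓ Z) := by
      by_contra h
      have := hlt (A ⊓ E)
      nlinarith [not_le.mp h]
    rw [← eq_of_le_of_card_ge h2 h4]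
    exact inf_le_left
  have heopt : Optimal (T : Subgroup Y) P A E := by
    intro B hB hBP hle
    have h1 := hbest B ⟨hB, hBP⟩
    have hz : A ⊓ Z ≤ B ⊓ Z := le_inf ((inf_le_inf_left A hZE).trans hle) inf_le_right
    have h2 : A ⊓ E ≤ B ⊓ E := le_inf hle inf_le_right
    have h3 := Subgroup.card_le_of_le hz
    have h4 : Nat.card ↥(B ⊓ E) ≤ Nat.card ↥(A ⊓ E) := by nlinarith
    rw [← eq_of_le_of_card_ge h2 h4]
    exact inf_le_left
  have hcfg : Cfg p (T : Subgroup Y) A P Q E :=
    { pn := hPn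
      qn := hQn
      pp := hPp
      qp := hQ.le
      pq := hQ.comm
      zsetting :=
        { le := by rw [normalizer_eq_top_iff.mpr hZn]; exact le_top
          comm := fun x hx y hy => hZc x hx y hy.1
          pgroup := T.2
          max := hA
          leT := inf_le_left.trans (hQ.le.trans hPT) }
      esetting :=
        { le := hA.2.1.trans hTE
          comm := hEc
          pgroup := T.2
          max := hA
          leT := hEQ.trans (hQ.le.trans hPT) }
      zopt := hzopt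
      eopt := heopt
      eq_le := hEQ
      self := hself }
  obtain ⟨g, hgA, hgP⟩ := SetLike.not_le_iff_exists.mp hAP
  refine ⟨g, hA.2.1 hgA, hgP, fun U V hUV hU => ?_⟩
  have hle6 := hcfg.degree_six hPT hcent U V hUV hU
  have := hUV.2.1
  refine (KInfinity.iterCommutator_antitone U _ (show 6 ≤ p - 1 by omega)).trans (le_trans ?_ hle6)
  have hz : zpowers g ≤ A := zpowers_le.mpr hgA
  exact commutator_mono (commutator_mono (commutator_mono (commutator_mono (commutator_mono
    (commutator_mono le_rfl hz) hz) hz) hz) hz) hz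

/-- For `p ≥ 7`, `G/O^p(G)` is the largest `p`-factor group of `N_G(J(S))`. -/
theorem pResidual_subgroupOf_normalizer_J (hp : 7 ≤ p) {G : Type u} [Group G] [Finite G]
    (S : Sylow p G) :
    (Cfsg.pResidual p G).subgroupOf
        (normalizer (Cfsg.thompsonSubgroupAOf (S : Subgroup G) : Set G)) =
      Cfsg.pResidual p ↥(normalizer (Cfsg.thompsonSubgroupAOf (S : Subgroup G) : Set G)) := by
  have hW := OffenderJ.jFun_isCharPFunctor.{u} p
  have h := KInfinity.transfer_eq hW (Functor.controlsTransfer_of_smallDegree hW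
    fun Y _ _ _ _ => smallDegree_jFun hp Y) S
  refine Transfer.pResidual_inf_eq_of_commutator S
    (le_normalizer.trans (ThompsonA.normalizer_le _)) ?_
  rw [inf_comm, h]
  exact inf_le_right

end Cfsg.Agent.Lib.JTransfer
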